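import Cfsg.Agent.Lib.Helper8.QTypeD
import Mathlib

/-!
# The type of the sum-of-squares form in even dimension over a finite field of odd order (helper7)
-/

set_option autoImplicit false
set_option linter.unusedSectionVars false

namespace Cfsg.Agent.Lib.H7GraphInv

open Matrix Cfsg QuadraticMap Module Cfsg.Agent.Lib.Helper8.QType Cfsg.Agent.S0287 Cfsg.Agent.S0288

universe u

variable {F : Type u} [Field F]

/-- the quadratic form `v ↦ vᵀ A v` -/
noncomputable def qf {ι : Type*} [Fintype ι] [DecidableEq ι] (A : Matrix ι ι F) :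
    QuadraticForm F (ι → F) := Matrix.toQuadraticForm' A

theorem qf_apply {ι : Type*} [Fintype ι] [DecidableEq ι] (A : Matrix ι ι F) (v : ι → F) :
    qf A v = v ⬝ᵥ (A *ᵥ v) := by
  unfold qf Matrix.toQuadraticForm'
  rw [LinearMap.BilinMap.toQuadraticMap_apply, Matrix.toLinearMap₂'_apply']

/-- the sum of squares -/
noncomputable def dotQ (k : ℕ) : QuadraticForm F (Fin k → F) := qf (1 : Matrix (Fin k) (Fin k) F)

theorem dotQ_apply (k : ℕ) (v : Fin k → F) : dotQ k v = ∑ i, v i * v i := by
  unfold dotQ
  rw [qf_apply, Matrix.one_mulVec]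
  rfl

/-- splitting coordinates -/
noncomputable def splitL (a b : ℕ) : (Fin (a + b) → F) ≃ₗ[F] (Fin a → F) × (Fin b → F) where
  toFun v := (fun i => v (Fin.castAdd b i), fun j => v (Fin.natAdd a j))
  invFun p := Fin.append p.1 p.2
  map_add' u v := rfl
  map_smul' c v := rfl
  left_inv v := by
    funext i
    refine Fin.addCases (fun i => ?_) (fun j => ?_) i
    · simp
    · simp
  right_inv p := by
    apply Prod.ext
    · funext i; simp
    · funext j; simp

noncomputable def dotSplit (a b : ℕ) :
    (dotQ (F := F) (a + b)).IsometryEquiv ((dotQ a).prod (dotQ b)) where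
  toLinearEquiv := splitL a b
  map_app' v := by
    rw [QuadraticMap.prod_apply, dotQ_apply, dotQ_apply, dotQ_apply, Fin.sum_univ_add]
    rfl

section types

variable [Fintype F]

/-- `x² + y²` is hyperbolic when `-1` is a square -/
theorem hasType_dot2_sq (h2 : (2 : F) ≠ 0) (i : F) (hi : i * i = -1) :
    HasType (dotQ (F := F) 2) 0 1 := by
  have hi0 : i ≠ 0 := by
    rintro rfl
    rw [mul_zero] at hi
    exact one_ne_zero (neg_eq_zero.1 hi.symm)
  let f : (Fin 2 → F) →ₗ[F] (Fin 1 ⊕ Fin 1 → F) :=
    { toFun := fun v => Sum.elim (fun _ => v 0 + i * v 1) (fun _ => v 0 - i * v 1)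
      map_add' := by
        intro u v
        funext c
        rcases c with c | c <;> simp <;> ring
      map_smul' := by
        intro a v
        funext c
        rcases c with c | c <;> simp <;> ring }
  have hinj : Function.Injective f := by
    rw [injective_iff_map_eq_zero]
    intro v hv
    have e1 : v 0 + i * v 1 = 0 := congrFun hv (Sum.inl 0)
    have e2 : v 0 - i * v 1 = 0 := congrFun hv (Sum.inr 0)
    have h0 : v 0 = 0 := by
      have : (2 : F) * v 0 = 0 := by linear_combination e1 + e2
      rcases mul_eq_zero.1 this with h | h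
      · exact absurd h h2
      · exact h
    have h1 : v 1 = 0 := by
      have : (2 * i) * v 1 = 0 := by linear_combination e1 - e2
      rcases mul_eq_zero.1 this with h | h
      · exact absurd h (mul_ne_zero h2 hi0)
      · exact h
    funext k
    fin_cases k
    · exact h0
    · exact h1
  have hdim : finrank F (Fin 2 → F) = finrank F (Fin 1 ⊕ Fin 1 → F) := by
    rw [Module.finrank_fintype_fun_eq_card, Module.finrank_fintype_fun_eq_card]
    simp
  let e : (dotQ (F := F) 2).IsometryEquiv (QP (F := F) (0 + 1)) :=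
    { toLinearEquiv := LinearEquiv.ofInjectiveOfFinrankEq f hinj hdim
      map_app' := by
        intro v
        rw [QP_apply, dotQ_apply]
        show Cfsg.quadFormPlus (0 + 1) F (f v) = _
        unfold Cfsg.quadFormPlus
        rw [Fin.sum_univ_two]
        show ∑ j : Fin 1, (v 0 + i * v 1) * (v 0 - i * v 1) = _
        rw [Fin.sum_univ_one]
        linear_combination (-(v 1 * v 1)) * hi }
  exact HasType.congr e.symm (hasType_QP 0)

/-- `x² + y²` is anisotropic when `-1` is not a square -/
theorem aniso_of_not_isSquare (hns : ¬ IsSquare (-1 : F)) (z₁ z₂ : F)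
    (h : z₁ ^ 2 + 0 * z₁ * z₂ + 1 * z₂ ^ 2 = 0) : z₁ = 0 ∧ z₂ = 0 := by
  have h' : z₁ ^ 2 + z₂ ^ 2 = 0 := by linear_combination h
  by_cases hz : z₂ = 0
  · refine ⟨?_, hz⟩
    rw [hz] at h'
    have : z₁ ^ 2 = 0 := by linear_combination h'
    exact pow_eq_zero_iff (by norm_num) |>.1 this
  · exfalso
    apply hns
    refine ⟨z₁ / z₂, ?_⟩
    field_simp
    linear_combination -h'

theorem hasType_dot2_nonsq (hns : ¬ IsSquare (-1 : F)) :
    HasType (dotQ (F := F) 2) 0 (-1) := by
  let e : (QM (F := F) 0 0 1).IsometryEquiv (dotQ (F := F) 2) :=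
    { toLinearEquiv := LinearEquiv.funCongrLeft F F (Equiv.emptySum (Fin 0 ⊕ Fin 0) (Fin 2)).symm
      map_app' := by
        intro w
        rw [QM_apply, dotQ_apply]
        unfold Cfsg.quadFormMinus
        rw [Fin.sum_univ_two]
        simp [LinearEquiv.funCongrLeft]
        ring }
  exact HasType.congr e (hasType_QM 0 0 1 (aniso_of_not_isSquare hns))

/-- the sign attached to `-1` -/
noncomputable def eps2 (F : Type u) [Field F] : ℤ := by
  classical exact if IsSquare (-1 : F) then 1 else -1

theorem hasType_dot2 (h2 : (2 : F) ≠ 0) : HasType (dotQ (F := F) 2) 0 (eps2 F) := by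
  classical
  unfold eps2
  by_cases h : IsSquare (-1 : F)
  · rw [if_pos h]
    obtain ⟨i, hi⟩ := h
    exact hasType_dot2_sq h2 i hi.symm
  · rw [if_neg h]
    exact hasType_dot2_nonsq h

/-- **the type of the sum of squares in dimension `2l+2`** -/
theorem hasType_dot (h2 : (2 : F) ≠ 0) (l : ℕ) (k : ℕ) (hk : k = 2 * l + 2) :
    HasType (dotQ (F := F) k) l (eps2 F ^ (l + 1)) := by
  induction l generalizing k with
  | zero =>
    subst hk
    rw [zero_add, pow_one]
    exact hasType_dot2 h2
  | succ l ih =>
    obtain rfl : k = (2 * l + 2) + 2 := by omega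
    have h1 := HasType.prod (ih (2 * l + 2) rfl) (hasType_dot2 h2)
    have h3 := HasType.congr (dotSplit (F := F) (2 * l + 2) 2).symm h1
    rw [← pow_succ] at h3
    exact h3

theorem eps2_eq_one_iff (hodd : Odd (Fintype.card F)) :
    eps2 F = 1 ↔ Fintype.card F % 4 = 1 := by
  classical
  unfold eps2
  have h4 := FiniteField.isSquare_neg_one_iff (F := F)
  rcases Nat.odd_mod_four_iff.1 (Nat.odd_iff.1 hodd) with h | h
  · rw [if_pos (h4.2 (by omega))]
    simp [h]
  · rw [if_neg (fun hh => h4.1 hh h)]
    simp [h]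

end types

end Cfsg.Agent.Lib.H7GraphInv
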