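import Cfsg.Prelude.Def_LieTypeDatum
import Mathlib

/-!
# Transport of projective similarity groups along linear equivalences (helper7)
-/

set_option autoImplicit false
set_option linter.unusedSectionVars false

namespace Cfsg.Agent.Lib.H7GraphInv

open Matrix Cfsg

universe u

variable {F : Type u} [Field F]

section congr

variable {ι ι' : Type} [Fintype ι] [DecidableEq ι] [Fintype ι'] [DecidableEq ι']

/-- transport of `projQuot` along an isomorphism of general linear groups respecting the subgroups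
and the scalars -/
theorem projQuot_congr (H : Subgroup (GL ι F)) (H' : Subgroup (GL ι' F))
    (Φ : GL ι F ≃* GL ι' F) (hH : ∀ g, g ∈ H ↔ Φ g ∈ H')
    (hS : ∀ g, g ∈ Cfsg.Geo.scalars ι F ↔ Φ g ∈ Cfsg.Geo.scalars ι' F) :
    Nonempty (Cfsg.projQuot H ≃* Cfsg.projQuot H') := by
  let ψ₀ : ↥H →* ↥H' :=
    (Φ.toMonoidHom.comp H.subtype).codRestrict H' (fun g => (hH g.1).1 g.2)
  let ψ : ↥H →* Cfsg.projQuot H' :=
    (QuotientGroup.mk' ((Cfsg.Geo.scalars ι' F).subgroupOf H')).comp ψ₀
  have hsurj : Function.Surjective ψ := by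
    intro x
    obtain ⟨⟨g', hg'⟩, rfl⟩ := QuotientGroup.mk_surjective x
    have hmem : Φ.symm g' ∈ H := by
      rw [hH, MulEquiv.apply_symm_apply]
      exact hg'
    refine ⟨⟨Φ.symm g', hmem⟩, ?_⟩
    show QuotientGroup.mk (ψ₀ ⟨Φ.symm g', hmem⟩) = _
    congr 1
    apply Subtype.ext
    show Φ (Φ.symm g') = g'
    rw [MulEquiv.apply_symm_apply]
  have hker : ψ.ker = (Cfsg.Geo.scalars ι F).subgroupOf H := by
    ext g
    rw [MonoidHom.mem_ker, Subgroup.mem_subgroupOf]
    show (QuotientGroup.mk (ψ₀ g) : Cfsg.projQuot H') = 1 ↔ _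
    rw [QuotientGroup.eq_one_iff, Subgroup.mem_subgroupOf, hS]
    rfl
  have e1 := QuotientGroup.quotientKerEquivOfSurjective ψ hsurj
  have e2 := QuotientGroup.quotientMulEquivOfEq hker
  exact ⟨e2.symm.trans e1⟩

/-- the isomorphism of general linear groups induced by a linear equivalence of coordinate
spaces -/
noncomputable def glCongr (e : (ι → F) ≃ₗ[F] (ι' → F)) : GL ι F ≃* GL ι' F :=
  (Matrix.GeneralLinearGroup.toLin.trans
    (LinearMap.GeneralLinearGroup.congrLinearEquiv e)).trans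
    Matrix.GeneralLinearGroup.toLin.symm

theorem glCongr_mulVec (e : (ι → F) ≃ₗ[F] (ι' → F)) (g : GL ι F) (w : ι' → F) :
    (glCongr e g).val *ᵥ w = e (g.val *ᵥ e.symm w) := by
  have h1 : Matrix.GeneralLinearGroup.toLin (glCongr e g)
      = LinearMap.GeneralLinearGroup.congrLinearEquiv e (Matrix.GeneralLinearGroup.toLin g) := by
    unfold glCongr
    simp
  have h2 := congrArg (fun x : LinearMap.GeneralLinearGroup F (ι' → F) => x.val w) h1
  simp only [Matrix.GeneralLinearGroup.coe_toLin] at h2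
  rw [Matrix.mulVecLin_apply] at h2
  rw [h2]
  simp [LinearMap.GeneralLinearGroup.congrLinearEquiv]

theorem glCongr_scalars (e : (ι → F) ≃ₗ[F] (ι' → F)) (g : GL ι F) :
    g ∈ Cfsg.Geo.scalars ι F ↔ glCongr e g ∈ Cfsg.Geo.scalars ι' F := by
  rw [Cfsg.Geo.mem_scalars_iff, Cfsg.Geo.mem_scalars_iff]
  constructor
  · rintro ⟨a, ha⟩
    refine ⟨a, ?_⟩
    apply Matrix.mulVec_injective
    funext w
    rw [glCongr_mulVec, ha, Matrix.smul_mulVec, Matrix.one_mulVec, map_smul,
      LinearEquiv.apply_symm_apply, Matrix.smul_mulVec, Matrix.one_mulVec]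
  · rintro ⟨a, ha⟩
    refine ⟨a, ?_⟩
    apply Matrix.mulVec_injective
    funext v
    have h := glCongr_mulVec e g (e v)
    rw [ha, Matrix.smul_mulVec, Matrix.one_mulVec, LinearEquiv.symm_apply_apply] at h
    have h2 : e (g.val *ᵥ v) = e ((a : F) • v) := by rw [← h, map_smul]
    rw [e.injective h2, Matrix.smul_mulVec, Matrix.one_mulVec]

/-- similar quadratic forms have isomorphic projective similarity groups -/
theorem pgo_congr (Q : (ι → F) → F) (Q' : (ι' → F) → F) (e : (ι → F) ≃ₗ[F] (ι' → F)) (c : F)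
    (hc : c ≠ 0) (h : ∀ v, Q' (e v) = c * Q v) : Nonempty (Cfsg.PGO F Q ≃* Cfsg.PGO F Q') := by
  refine projQuot_congr _ _ (glCongr e) (fun g => ?_) (glCongr_scalars e)
  constructor
  · rintro ⟨d, hd⟩
    refine ⟨d, fun w => ?_⟩
    rw [glCongr_mulVec, h, hd]
    have := h (e.symm w)
    rw [LinearEquiv.apply_symm_apply] at this
    rw [this]
    ring
  · rintro ⟨d, hd⟩
    refine ⟨d, fun v => ?_⟩
    have h1 := hd (e v)
    rw [glCongr_mulVec, LinearEquiv.symm_apply_apply, h, h] at h1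
    apply mul_left_cancel₀ hc
    rw [h1]
    ring

end congr

end Cfsg.Agent.Lib.H7GraphInv
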