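import Cfsg.Agent.Lib.Helper7.AutPSL.GraphFieldPGU
import Cfsg.Agent.Lib.Helper7.GraphInv.PGOCongr
import Mathlib

/-!
# Graph automorphisms `Dh A * Γ` of `PSL_n(F)`: squares, conjugates, centralisers (helper7)
-/

set_option autoImplicit false
set_option linter.unusedSectionVars false

namespace Cfsg.Agent.Lib.H7GraphInv

open Matrix Cfsg Cfsg.Agent.AutPSLCount Cfsg.Agent.Lib.H7AutPSL

universe u

variable {n : ℕ} {F : Type u} [Field F]

theorem Dh_eq_iff' (hn : 2 ≤ n) (g g' : GL (Fin n) F) :
    (Dh g : MulAut (PSLn n F)) = Dh g' ↔ ∃ d : Fˣ, g.val = (d : F) • g'.val := by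
  constructor
  · intro h
    have h1 : g * g'⁻¹ ∈ (Dh : GL (Fin n) F →* MulAut (PSLn n F)).ker := by
      rw [MonoidHom.mem_ker, map_mul, map_inv, h, mul_inv_cancel]
    rw [Dh_ker hn, Matrix.GeneralLinearGroup.center_eq_range_scalar] at h1
    obtain ⟨d, hd⟩ := h1
    refine ⟨d, ?_⟩
    have e : g = Matrix.GeneralLinearGroup.scalar (Fin n) d * g' := by
      rw [hd, inv_mul_cancel_right]
    have := congrArg Units.val e
    rw [Units.val_mul, scalar_val, Matrix.smul_mul, Matrix.one_mul] at this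
    exact this
  · rintro ⟨d, hd⟩
    have e : g = Matrix.GeneralLinearGroup.scalar (Fin n) d * g' := by
      apply Units.ext
      rw [Units.val_mul, scalar_val, Matrix.smul_mul, Matrix.one_mul]
      exact hd
    rw [e, map_mul, Dh_scalar hn, one_mul]

/-- a graph automorphism times an inner-diagonal one -/
theorem graph_mul_Dh (A h : GL (Fin n) F) :
    (Dh A * Γ : MulAut (PSLn n F)) * Dh h = Dh (A * gti h) * Γ := by
  rw [mul_assoc, Γ_Dh, ← mul_assoc, ← map_mul]

theorem Dh_mul_graph (A h : GL (Fin n) F) :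
    Dh h * (Dh A * Γ : MulAut (PSLn n F)) = Dh (h * A) * Γ := by
  rw [← mul_assoc, ← map_mul]

/-- `h ᵀ` as an invertible matrix -/
theorem gti_inv_mul (h : GL (Fin n) F) : ((gti h)⁻¹ * gti h : GL (Fin n) F) = 1 := inv_mul_cancel _

/-- the matrices centralising a graph automorphism -/
theorem mem_centGL_graph (hn : 2 ≤ n) (A h : GL (Fin n) F) :
    h ∈ centGL (Dh A * Γ : MulAut (PSLn n F)) ↔
      ∃ d : Fˣ, h.val * A.val * h.valᵀ = (d : F) • A.val := by
  rw [mem_centGL, graph_mul_Dh, Dh_mul_graph, mul_left_inj, Dh_eq_iff' hn]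
  constructor
  · rintro ⟨d, hd⟩
    refine ⟨d, ?_⟩
    rw [Units.val_mul, Units.val_mul] at hd
    rw [hd, Matrix.smul_mul, Matrix.mul_assoc, ← gti_inv_val, ← Units.val_mul, mul_inv_cancel,
      Units.val_one, Matrix.mul_one]
  · rintro ⟨d, hd⟩
    refine ⟨d, ?_⟩
    rw [Units.val_mul, Units.val_mul]
    have e : h.valᵀ * (gti h).val = 1 := by
      rw [← gti_inv_val, ← Units.val_mul, inv_mul_cancel, Units.val_one]
    calc h.val * A.val = h.val * A.val * (h.valᵀ * (gti h).val) := by
          rw [e, Matrix.mul_one]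
      _ = (h.val * A.val * h.valᵀ) * (gti h).val := by rw [Matrix.mul_assoc (h.val * A.val)]
      _ = (d : F) • (A.val * (gti h).val) := by rw [hd, Matrix.smul_mul]

/-- conjugating a graph automorphism by an inner-diagonal one -/
theorem graph_conj (A h : GL (Fin n) F) :
    Dh h * (Dh A * Γ : MulAut (PSLn n F)) * (Dh h)⁻¹ = Dh (h * A * (gti h)⁻¹) * Γ := by
  rw [mul_inv_eq_iff_eq_mul, graph_mul_Dh, Dh_mul_graph, inv_mul_cancel_right]

theorem graph_conj_val (A h : GL (Fin n) F) :
    (h * A * (gti h)⁻¹).val = h.val * A.val * h.valᵀ := by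
  rw [Units.val_mul, Units.val_mul, gti_inv_val]

/-- the square of a graph automorphism -/
theorem graph_sq (A : GL (Fin n) F) :
    (Dh A * Γ : MulAut (PSLn n F)) ^ 2 = Dh (A * gti A) := by
  rw [pow_two, ← mul_assoc, graph_mul_Dh, mul_assoc, Γ_Γ, mul_one]

/-- a graph automorphism squares to one iff its matrix is symmetric or skew-symmetric -/
theorem graph_sq_eq_one_iff (hn : 2 ≤ n) (A : GL (Fin n) F) :
    (Dh A * Γ : MulAut (PSLn n F)) ^ 2 = 1 ↔ (A.valᵀ = A.val ∨ A.valᵀ = -A.val) := by
  rw [graph_sq, ← map_one (Dh : GL (Fin n) F →* MulAut (PSLn n F)), Dh_eq_iff' hn]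
  constructor
  · rintro ⟨d, hd⟩
    rw [Units.val_mul, Units.val_one, gti_val] at hd
    have h1 : A.val = (d : F) • A.valᵀ := by
      have := congrArg (fun M => M * A.valᵀ) hd
      beta_reduce at this
      rw [Matrix.mul_assoc, ← Matrix.transpose_mul, ← Units.val_mul, mul_inv_cancel, Units.val_one,
        Matrix.transpose_one, Matrix.mul_one, Matrix.smul_mul, Matrix.one_mul] at this
      exact this
    have h2 : A.valᵀ = (d : F) • A.val := by
      have := congrArg Matrix.transpose h1
      rw [Matrix.transpose_smul, Matrix.transpose_transpose] at this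
      exact this
    have h3 : A.val = ((d : F) * d) • A.val := by
      conv_lhs => rw [h1, h2, smul_smul]
    have h4 : ((d : F) * d) = 1 := by
      by_contra hne
      have hA0 : A.val = 0 := by
        have : (1 - (d : F) * d) • A.val = 0 := by
          rw [sub_smul, one_smul, ← h3, sub_self]
        rcases smul_eq_zero.1 this with h | h
        · exact absurd (sub_eq_zero.1 h).symm hne
        · exact h
      have hone : A.val * A⁻¹.val = 1 := by
        rw [← Units.val_mul, mul_inv_cancel, Units.val_one]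
      rw [hA0, Matrix.zero_mul] at hone
      have := congrFun (congrFun hone ⟨0, by omega⟩) ⟨0, by omega⟩
      rw [Matrix.zero_apply, Matrix.one_apply_eq] at this
      exact zero_ne_one this
    have h5 : (d : F) = 1 ∨ (d : F) = -1 := mul_self_eq_one_iff.1 h4
    rcases h5 with h | h
    · left
      rw [h2, h, one_smul]
    · right
      rw [h2, h, neg_smul, one_smul]
  · rintro (h | h)
    · refine ⟨1, ?_⟩
      rw [Units.val_mul, Units.val_one, Units.val_one, one_smul, gti_val, ← h,
        ← Matrix.transpose_mul, ← Units.val_mul, inv_mul_cancel, Units.val_one,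
        Matrix.transpose_one]
    · refine ⟨-1, ?_⟩
      have hA : A.val = -A.valᵀ := by rw [h, neg_neg]
      rw [Units.val_mul, Units.val_one, gti_val]
      conv_lhs => rw [hA]
      rw [Matrix.neg_mul, ← Matrix.transpose_mul, ← Units.val_mul, inv_mul_cancel, Units.val_one,
        Matrix.transpose_one]
      simp

/-- a graph automorphism is not trivial -/
theorem graph_ne_one (hn : 3 ≤ n) (A : GL (Fin n) F) : (Dh A * Γ : MulAut (PSLn n F)) ≠ 1 := by
  intro h
  have h1 : (Dh A⁻¹ : MulAut (PSLn n F)) = Γ := by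
    rw [map_inv, inv_eq_iff_mul_eq_one, h]
  apply conj_ne_field_it hn A⁻¹ 1
  rw [map_one, map_one, one_mul]
  exact h1

theorem graph_orderOf (hn : 3 ≤ n) (A : GL (Fin n) F)
    (hA : A.valᵀ = A.val ∨ A.valᵀ = -A.val) : orderOf (Dh A * Γ : MulAut (PSLn n F)) = 2 :=
  orderOf_eq_prime ((graph_sq_eq_one_iff (by omega) A).2 hA) (graph_ne_one hn A)

/-- the centraliser in the inner-diagonal group as a projective quotient -/
theorem cent_equiv_projQuot (hn : 2 ≤ n) (X : MulAut (PSLn n F)) (H : Subgroup (GL (Fin n) F))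
    (hH : centGL X = H) :
    Nonempty (↥(Dsub n F ⊓ Subgroup.centralizer {X}) ≃* Cfsg.projQuot H) := by
  subst hH
  let ψ : ↥(centGL X) →* ↥(Dsub n F ⊓ Subgroup.centralizer {X}) :=
    (Dh.comp (centGL X).subtype).codRestrict _ (fun g =>
      Subgroup.mem_inf.2 ⟨⟨g.1, rfl⟩, g.2⟩)
  have hsurj : Function.Surjective ψ := by
    rintro ⟨c, hc⟩
    obtain ⟨⟨g, rfl⟩, hcent⟩ := Subgroup.mem_inf.1 hc
    exact ⟨⟨g, hcent⟩, rfl⟩
  have hker : ψ.ker = (Cfsg.Geo.scalars (Fin n) F).subgroupOf (centGL X) := by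
    ext g
    rw [MonoidHom.mem_ker, Subgroup.mem_subgroupOf, geoScalars_eq_center, ← Dh_ker hn,
      MonoidHom.mem_ker, Subtype.ext_iff]
    rfl
  have e1 := QuotientGroup.quotientKerEquivOfSurjective ψ hsurj
  have e2 := QuotientGroup.quotientMulEquivOfEq hker
  exact ⟨e1.symm.trans e2⟩

end Cfsg.Agent.Lib.H7GraphInv
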