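import Cfsg.Agent.Lib.Helper7.GraphInv.GraphCent
import Mathlib

/-!
# The centraliser of a symmetric graph involution is a projective similarity group (helper7)
-/

set_option autoImplicit false
set_option linter.unusedSectionVars false

namespace Cfsg.Agent.Lib.H7GraphInv

open Matrix Cfsg Cfsg.Agent.AutPSLCount Cfsg.Agent.Lib.H7AutPSL

universe u

variable {F : Type u} [Field F]

section forms

variable {ι : Type*} [Fintype ι] [DecidableEq ι]

theorem quad_conj (h B : Matrix ι ι F) (v : ι → F) :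
    v ⬝ᵥ ((hᵀ * B * h) *ᵥ v) = (h *ᵥ v) ⬝ᵥ (B *ᵥ (h *ᵥ v)) := by
  rw [← Matrix.mulVec_mulVec, ← Matrix.mulVec_mulVec, Matrix.dotProduct_mulVec,
    Matrix.vecMul_transpose]

/-- a symmetric matrix whose quadratic form vanishes is zero (characteristic not two) -/
theorem symm_quad_zero (h2 : (2 : F) ≠ 0) (M : Matrix ι ι F) (hM : Mᵀ = M)
    (hq : ∀ v : ι → F, v ⬝ᵥ (M *ᵥ v) = 0) : M = 0 := by
  have hdiag : ∀ i, M i i = 0 := by
    intro i
    have := hq (Pi.single i 1)
    rw [Matrix.mulVec_single_one, single_dotProduct, one_mul] at this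
    exact this
  ext i j
  rw [Matrix.zero_apply]
  by_cases hij : i = j
  · rw [hij]; exact hdiag j
  · have := hq (Pi.single i 1 + Pi.single j 1)
    rw [Matrix.mulVec_add, Matrix.mulVec_single_one, Matrix.mulVec_single_one, add_dotProduct,
      dotProduct_add, dotProduct_add, single_dotProduct, single_dotProduct, single_dotProduct,
      single_dotProduct, one_mul, one_mul, one_mul, one_mul] at this
    simp only [Matrix.col_apply] at this
    have hji : M j i = M i j := by
      have := congrFun (congrFun hM i) j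
      rw [Matrix.transpose_apply] at this
      exact this
    rw [hdiag i, hdiag j, hji] at this
    have h3 : (2 : F) * M i j = 0 := by linear_combination this
    rcases mul_eq_zero.1 h3 with h | h
    · exact absurd h h2
    · exact h

/-- similarities of the quadratic form of a symmetric matrix -/
theorem mem_quadSim_iff {ι : Type} [Fintype ι] [DecidableEq ι] (h2 : (2 : F) ≠ 0)
    (B : Matrix ι ι F) (hB : Bᵀ = B) (h : GL ι F) :
    h ∈ Cfsg.Geo.quadSimilarityGroup (fun v : ι → F => v ⬝ᵥ (B *ᵥ v)) ↔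
      ∃ c : Fˣ, h.valᵀ * B * h.val = (c : F) • B := by
  constructor
  · rintro ⟨c, hc⟩
    refine ⟨c, ?_⟩
    have hM : (h.valᵀ * B * h.val - (c : F) • B)ᵀ = h.valᵀ * B * h.val - (c : F) • B := by
      rw [Matrix.transpose_sub, Matrix.transpose_mul, Matrix.transpose_mul,
        Matrix.transpose_transpose, Matrix.transpose_smul, hB, Matrix.mul_assoc]
    have := symm_quad_zero h2 _ hM (fun v => by
      have hcv := hc v
      beta_reduce at hcv
      rw [Matrix.sub_mulVec, dotProduct_sub, quad_conj, hcv, Matrix.smul_mulVec,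
        dotProduct_smul, smul_eq_mul, sub_self])
    exact sub_eq_zero.1 this
  · rintro ⟨c, hc⟩
    refine ⟨c, fun v => ?_⟩
    beta_reduce
    rw [← quad_conj, hc, Matrix.smul_mulVec, dotProduct_smul, smul_eq_mul]

/-- passing to the inverse form -/
theorem congr_inv_form (h h' A B : Matrix ι ι F) (hAB : A * B = 1) (hBA : B * A = 1)
    (hh' : h' * h = 1) (d : F) (hd : h * A * hᵀ = d • A) :
    hᵀ * B * h = d • B := by
  have e1 : hᵀ = d • (B * h' * A) := by
    calc hᵀ = B * h' * (h * A * hᵀ) := by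
          rw [← Matrix.mul_assoc, ← Matrix.mul_assoc, Matrix.mul_assoc B, hh', Matrix.mul_one,
            hBA, Matrix.one_mul]
      _ = d • (B * h' * A) := by rw [hd, Matrix.mul_smul]
  calc hᵀ * B * h = d • (B * h' * A) * B * h := by rw [← e1]
    _ = d • (B * h' * (A * B) * h) := by
        rw [Matrix.smul_mul, Matrix.smul_mul, Matrix.mul_assoc (B * h') A B]
    _ = d • B := by
        rw [hAB, Matrix.mul_one, Matrix.mul_assoc, hh', Matrix.mul_one]

end forms

variable {n : ℕ}

/-- the centraliser (at matrix level) of a symmetric graph involution -/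
theorem centGL_graph_eq (hn : 2 ≤ n) (h2 : (2 : F) ≠ 0) (A : GL (Fin n) F)
    (hA : A.valᵀ = A.val) :
    centGL (Dh A * Γ : MulAut (PSLn n F)) =
      Cfsg.Geo.quadSimilarityGroup (fun v : Fin n → F => v ⬝ᵥ (A⁻¹.val *ᵥ v)) := by
  have hAB : A.val * A⁻¹.val = 1 := by rw [← Units.val_mul, mul_inv_cancel, Units.val_one]
  have hBA : A⁻¹.val * A.val = 1 := by rw [← Units.val_mul, inv_mul_cancel, Units.val_one]
  have hB : A⁻¹.valᵀ = A⁻¹.val := by
    have h1 : A⁻¹.valᵀ * A.val = 1 := by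
      rw [← hA, ← Matrix.transpose_mul, hAB, Matrix.transpose_one]
    calc A⁻¹.valᵀ = A⁻¹.valᵀ * (A.val * A⁻¹.val) := by rw [hAB, Matrix.mul_one]
      _ = A⁻¹.val := by rw [← Matrix.mul_assoc, h1, Matrix.one_mul]
  ext h
  have hh1 : h⁻¹.val * h.val = 1 := by rw [← Units.val_mul, inv_mul_cancel, Units.val_one]
  have hh2 : h.val * h⁻¹.val = 1 := by rw [← Units.val_mul, mul_inv_cancel, Units.val_one]
  rw [mem_centGL_graph hn, mem_quadSim_iff h2 _ hB]
  constructor
  · rintro ⟨d, hd⟩
    exact ⟨d, congr_inv_form h.val h⁻¹.val A.val A⁻¹.val hAB hBA hh1 d hd⟩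
  · rintro ⟨d, hd⟩
    refine ⟨d, ?_⟩
    have h3 : (h⁻¹.valᵀ) * h.valᵀ = 1 := by
      rw [← Matrix.transpose_mul, hh2, Matrix.transpose_one]
    have := congr_inv_form h.valᵀ h⁻¹.valᵀ A⁻¹.val A.val hBA hAB h3 d
      (by rw [Matrix.transpose_transpose]; exact hd)
    rw [Matrix.transpose_transpose] at this
    exact this

/-- **the centraliser of a symmetric graph involution is a projective similarity group** -/
theorem cent_graph_pgo (hn : 2 ≤ n) (h2 : (2 : F) ≠ 0) (A : GL (Fin n) F)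
    (hA : A.valᵀ = A.val) {ι' : Type} [Fintype ι'] [DecidableEq ι'] (Q' : (ι' → F) → F)
    (e : (Fin n → F) ≃ₗ[F] (ι' → F)) (c : F) (hc : c ≠ 0)
    (hQ : ∀ v, Q' (e v) = c * (v ⬝ᵥ (A⁻¹.val *ᵥ v))) :
    Nonempty (↥(Dsub n F ⊓ Subgroup.centralizer {(Dh A * Γ : MulAut (PSLn n F))}) ≃*
      Cfsg.PGO F Q') := by
  obtain ⟨e1⟩ := cent_equiv_projQuot hn (Dh A * Γ : MulAut (PSLn n F)) _
    (centGL_graph_eq hn h2 A hA)
  obtain ⟨e2⟩ := pgo_congr (fun v : Fin n → F => v ⬝ᵥ (A⁻¹.val *ᵥ v)) Q' e c hc hQ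
  exact ⟨e1.trans e2⟩

end Cfsg.Agent.Lib.H7GraphInv
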